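import Groth.Prelude.Def_CInt
import Mathlib.AlgebraicGeometry.Morphisms.SchemeTheoreticallyDominant
import Mathlib.AlgebraicGeometry.Morphisms.ClosedImmersion
import Mathlib.AlgebraicGeometry.Morphisms.Separated
import Mathlib.CategoryTheory.Comma.Over.Pullback
import Mathlib.RingTheory.Localization.FractionRing
import Groth.Agent.Lib.AssPt.Basic
import Groth.Agent.Lib.Depth.Assoc
import Mathlib.AlgebraicGeometry.Noetherian

/-!
# Schematically dense opens

* `Groth.Agent.Lib.SchDense.Basic` (helper76): uniqueness of morphisms along scheme-theoretically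
  dominant morphisms.
* `Groth.Agent.Lib.SchDense` (helper89): schematically dense opens and depth.
-/

set_option autoImplicit false
universe u

section

open CategoryTheory CategoryTheory.Limits AlgebraicGeometry

namespace Groth.Agent.Lib.SchDense.Basic

/-- Two morphisms to a scheme separated over `Z` agreeing after precomposition with a
scheme-theoretically dominant morphism are equal. -/
theorem ext_of_std {W X Y Z : Scheme.{u}} {f g : X ⟶ Y} (s : Y ⟶ Z) [IsSeparated s]
    (h : f ≫ s = g ≫ s) (d : W ⟶ X) [IsSchemeTheoreticallyDominant d]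
    (hd : d ≫ f = d ≫ g) : f = g := by
  let X' : Over Z := Over.mk (f ≫ s)
  let Y' : Over Z := Over.mk s
  let f' : X' ⟶ Y' := Over.homMk f
  let g' : X' ⟶ Y' := Over.homMk g
  let d' : Over.mk (d ≫ f ≫ s) ⟶ X' := Over.homMk d
  have : IsSeparated Y'.hom := ‹_›
  have hl : (equalizer.lift d' (by ext1; exact hd)).left ≫ (equalizer.ι f' g').left = d := by
    rw [← Over.comp_left, equalizer.lift_ι]; rfl
  have hk : (equalizer.ι f' g').left.ker = ⊥ :=
    le_bot_iff.mp (((equalizer.lift d' (by ext1; exact hd)).left.le_ker_comp _).trans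
      (by rw [hl, Scheme.Hom.ker_eq_bot d]))
  have : IsIso (equalizer.ι f' g').left := IsClosedImmersion.isIso_iff_ker_eq_bot.mpr hk
  rw [← cancel_epi (equalizer.ι f' g').left]
  exact congr($(equalizer.condition f' g').left)

/-- A schematically dense open is scheme-theoretically dominant. -/
theorem std_of_isSchematicallyDense {X : Scheme.{u}} {U : X.Opens}
    (hU : CInt.IsSchematicallyDense U) : IsSchemeTheoreticallyDominant U.ι := by
  refine ⟨le_bot_iff.mp fun V x hx => ?_⟩
  have h0 : (U.ι.app V.1).hom x = 0 := U.ι.ideal_ker_le V hx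
  rw [Scheme.Opens.ι_app] at h0
  have h1 : (X.presheaf.map (homOfLE (inf_le_left : V.1 ⊓ U ≤ V.1)).op).hom x = 0 := by
    have hle : V.1 ⊓ U ≤ U.ι ''ᵁ U.ι ⁻¹ᵁ V.1 := by
      rw [Scheme.Hom.image_preimage_eq_opensRange_inf, Scheme.Opens.opensRange_ι]
      exact le_of_eq (inf_comm _ _)
    have := (congrArg (X.presheaf.map (homOfLE hle).op).hom h0).trans (map_zero _)
    refine Eq.trans ?_ this
    change _ = ((X.presheaf.map _) ≫ X.presheaf.map _).hom x
    rw [← Functor.map_comp]
    rfl
  exact Submodule.mem_bot _ |>.mpr ((map_eq_zero_iff _ (hU V.1)).mp h1)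

/-- Two morphisms to a separated scheme agreeing on a schematically dense open are equal. -/
theorem ext_of_isSchematicallyDense {X Y Z : Scheme.{u}} {f g : X ⟶ Y} (s : Y ⟶ Z) [IsSeparated s]
    (h : f ≫ s = g ≫ s) {U : X.Opens} (hU : CInt.IsSchematicallyDense U)
    (hd : U.ι ≫ f = U.ι ≫ g) : f = g :=
  have := std_of_isSchematicallyDense hU
  ext_of_std s h U.ι hd

/-- `Spec L ⟶ Spec R` is scheme-theoretically dominant when `R → L` is injective. -/
theorem std_specMap_of_injective {R L : CommRingCat.{u}} (φ : R ⟶ L)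
    (hφ : Function.Injective φ.hom) : IsSchemeTheoreticallyDominant (Spec.map φ) := by
  refine ⟨?_⟩
  rw [Scheme.ker_of_isAffine, ← le_bot_iff]
  refine Scheme.IdealSheafData.le_of_isAffine ?_
  simp only [Scheme.IdealSheafData.ofIdealTop_ideal, Scheme.IdealSheafData.ideal_bot, Pi.bot_apply]
  have hinj : Function.Injective (Spec.map φ).appTop.hom := by
    have e := Scheme.ΓSpecIso_naturality φ
    have : (Spec.map φ).appTop = (Scheme.ΓSpecIso R).hom ≫ φ ≫ (Scheme.ΓSpecIso L).inv := by
      rw [← Category.assoc, ← e]; simp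
    rw [this]
    simp only [CommRingCat.hom_comp, RingHom.coe_comp]
    exact ((ConcreteCategory.bijective_of_isIso (Scheme.ΓSpecIso L).inv).1.comp hφ).comp
      (ConcreteCategory.bijective_of_isIso (Scheme.ΓSpecIso R).hom).1
  rw [(RingHom.injective_iff_ker_eq_bot _).mp hinj]
  simp

/-- The generic point of a domain is scheme-theoretically dominant. -/
theorem std_genPt (R : Type u) [CommRing R] [IsDomain R] :
    IsSchemeTheoreticallyDominant
      (Spec.map (CommRingCat.ofHom (algebraMap R (FractionRing R)))) :=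
  std_specMap_of_injective _ (IsFractionRing.injective R (FractionRing R))

/-- Base change along a quasi-compact scheme-theoretically dominant morphism is faithful on
morphisms from flat schemes to separated schemes. -/
theorem pullback_map_injective {S T : Scheme.{u}} (d : T ⟶ S) [IsSchemeTheoreticallyDominant d]
    [QuasiCompact d] {X Y : Over S} [Flat X.hom] [IsSeparated Y.hom] :
    Function.Injective (fun f : X ⟶ Y => (Over.pullback d).map f) := by
  intro f g h
  have hl := congrArg (fun k => CommaMorphism.left k ≫ pullback.fst Y.hom d) h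
  simp only [Over.pullback_map_left, pullback.lift_fst] at hl
  ext1
  exact ext_of_std Y.hom (by simp) (pullback.fst X.hom d) hl

end Groth.Agent.Lib.SchDense.Basic

end

section
open CategoryTheory AlgebraicGeometry TopologicalSpace IsLocalRing

namespace Groth.Agent.Lib.SchDense

open Groth.Agent.Lib.AssPt.Basic

variable {X : Scheme.{u}} [IsLocallyNoetherian X]

theorem one_le_depth_iff (x : X) :
    (1 : ℕ∞) ≤ LocCoh.depth (X.presheaf.stalk x) (X.presheaf.stalk x) ↔
      ¬ MaxAssoc (X.presheaf.stalk x) := by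
  rw [Order.one_le_iff_ne_zero, Ne, Groth.Agent.Lib.Depth.Assoc.depth_eq_zero_iff]
  rfl

theorem not_maxAssoc_of_schDense {U : X.Opens} (hU : CInt.IsSchematicallyDense U) {x : X}
    (hx : x ∉ U) : ¬ MaxAssoc (X.presheaf.stalk x) := by
  intro ha
  obtain ⟨-, t, ht⟩ := isAssociatedPrime_iff.mp ha
  obtain ⟨V, hxV, c₀, rfl⟩ := X.presheaf.exists_germ_eq t
  obtain ⟨W, hW, hxW, hle⟩ := exists_isAffineOpen_mem_and_subset hxV
  have hWV : W ≤ V := fun y hy => hle hy
  haveI : IsNoetherianRing Γ(X, W) := IsLocallyNoetherian.component_noetherian ⟨W, hW⟩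
  rw [← TopCat.Presheaf.germ_res_apply X.presheaf (homOfLE hWV) x hxW] at ht
  generalize X.presheaf.map (homOfLE hWV).op c₀ = c at ht
  have hc : X.presheaf.germ W x hxW c ≠ 0 := fun h => by
    rw [h] at ht
    apply (maximalIdeal.isMaximal (X.presheaf.stalk x)).ne_top
    rw [ht, Ideal.eq_top_iff_one, Submodule.mem_colon_singleton]
    simp
  letI := X.presheaf.algebra_section_stalk ⟨x, hxW⟩
  haveI := hW.isLocalization_stalk ⟨x, hxW⟩
  set P := (hW.primeIdealOf ⟨x, hxW⟩).asIdeal
  -- a neighbourhood on which the prime of `x` kills `c`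
  have hkill : ∀ a ∈ P, ∃ s : Γ(X, W), s ∉ P ∧ s * (a * c) = 0 := by
    intro a haP
    have h1 : algebraMap Γ(X, W) (X.presheaf.stalk x) (a * c) = 0 := by
      have hm : algebraMap Γ(X, W) (X.presheaf.stalk x) a ∈ maximalIdeal (X.presheaf.stalk x) :=
        fun hu => (IsLocalization.AtPrime.isUnit_to_map_iff (X.presheaf.stalk x) P a).mp hu haP
      rw [ht, Submodule.mem_colon_singleton, Submodule.mem_bot, smul_eq_mul] at hm
      rw [map_mul]
      exact hm
    obtain ⟨s, hs⟩ := (IsLocalization.map_eq_zero_iff P.primeCompl _ _).mp h1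
    exact ⟨s, s.2, hs⟩
  obtain ⟨S, hS⟩ := IsNoetherian.noetherian P
  choose s hsP hs using hkill
  let σ : Γ(X, W) := ∏ a : S, s a.1 (hS ▸ Submodule.subset_span a.2)
  have hσP : σ ∉ P := fun h => by
    obtain ⟨a, -, ha⟩ := (Ideal.IsPrime.prod_mem_iff).mp h
    exact hsP a.1 _ ha
  have hσ : ∀ a ∈ P, σ * (a * c) = 0 := by
    intro a ha
    rw [← hS] at ha
    induction ha using Submodule.span_induction with
    | mem a ha =>
      obtain ⟨d, hd⟩ := Finset.dvd_prod_of_mem (fun a : S => s a.1 (hS ▸ Submodule.subset_span a.2))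
        (Finset.mem_univ ⟨a, ha⟩)
      show σ * (a * c) = 0
      rw [show σ = _ from hd, mul_right_comm, hs, zero_mul]
    | zero => rw [zero_mul, mul_zero]
    | add a b _ _ h1 h2 => rw [add_mul, mul_add, h1, h2, add_zero]
    | smul r a _ h1 => rw [smul_eq_mul, mul_assoc, mul_left_comm, h1, mul_zero]
  let N := X.basicOpen σ
  have hNW : N ≤ W := X.basicOpen_le σ
  have hxN : x ∈ N := (X.mem_basicOpen σ x hxW).mpr (IsLocalization.map_units (X.presheaf.stalk x)
    (⟨σ, hσP⟩ : P.primeCompl))
  have h0 : X.presheaf.map (homOfLE (inf_le_left : N ⊓ U ≤ N)).op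
      (X.presheaf.map (homOfLE hNW).op c) = 0 := by
    refine TopCat.Presheaf.section_ext X.sheaf _ _ 0 fun y hy => ?_
    change X.presheaf.germ _ y hy _ = X.presheaf.germ _ y hy 0
    rw [map_zero, TopCat.Presheaf.germ_res_apply, TopCat.Presheaf.germ_res_apply]
    have hyW : y ∈ W := hNW hy.1
    letI := X.presheaf.algebra_section_stalk ⟨y, hyW⟩
    haveI := hW.isLocalization_stalk ⟨y, hyW⟩
    obtain ⟨a, haP, hay⟩ : ∃ a ∈ P, a ∉ (hW.primeIdealOf ⟨y, hyW⟩).asIdeal := by
      refine SetLike.not_le_iff_exists.mp fun hle => hx ?_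
      exact ((specializes_iff_primeIdealOf hW hyW hxW).mpr hle).mem_open U.2 hy.2
    have h1 := congrArg (X.presheaf.germ W y hyW) (hσ a haP)
    rw [map_mul, map_mul, map_zero] at h1
    have hσu : IsUnit (X.presheaf.germ W y hyW σ) := (X.mem_basicOpen σ y hyW).mp hy.1
    have hau : IsUnit (X.presheaf.germ W y hyW a) := IsLocalization.map_units (X.presheaf.stalk y)
      (⟨a, hay⟩ : (hW.primeIdealOf ⟨y, hyW⟩).asIdeal.primeCompl)
    exact hau.mul_right_eq_zero.mp (hσu.mul_right_eq_zero.mp h1)
  have h1 : X.presheaf.map (homOfLE hNW).op c = 0 := hU N (h0.trans (map_zero _).symm)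
  apply hc
  rw [← TopCat.Presheaf.germ_res_apply X.presheaf (homOfLE hNW) x hxN, h1, map_zero]

theorem schDense_of_not_maxAssoc {U : X.Opens}
    (h : ∀ x : X, x ∉ U → ¬ MaxAssoc (X.presheaf.stalk x)) : CInt.IsSchematicallyDense U := by
  intro V
  rw [injective_iff_map_eq_zero]
  intro t ht
  refine eq_zero_of_germ_eq_zero_maxAssoc t fun x hx ha => ?_
  have hxU : x ∈ U := by_contra fun hn => h x hn ha
  rw [← TopCat.Presheaf.germ_res_apply X.presheaf (homOfLE (inf_le_left : V ⊓ U ≤ V)) x
    (show x ∈ V ⊓ U from ⟨hx, hxU⟩), ht, map_zero]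

theorem isSchematicallyDense_iff (U : X.Opens) :
    CInt.IsSchematicallyDense U ↔
      ∀ x : X, x ∉ U → (1 : ℕ∞) ≤ LocCoh.depth (X.presheaf.stalk x) (X.presheaf.stalk x) :=
  ⟨fun h _ hx => (one_le_depth_iff _).mpr (not_maxAssoc_of_schDense h hx),
    fun h => schDense_of_not_maxAssoc fun x hx => (one_le_depth_iff x).mp (h x hx)⟩

end Groth.Agent.Lib.SchDense

end
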