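import Groth.Agent.Lib.SchDense.Basic
import Mathlib.AlgebraicGeometry.Morphisms.Smooth

/-!
# Factorisation through closed subschemes, restriction to open subschemes of the base
-/

universe u

open CategoryTheory CategoryTheory.Limits AlgebraicGeometry

namespace Groth.Agent.Lib.SchDense.Factor

/-- If `d ≫ h` factors through a closed immersion and `d` is scheme-theoretically dominant then
`h` factors through it. -/
theorem exists_factor {W X Y Z : Scheme.{u}} (i : Z ⟶ Y) [IsClosedImmersion i] (h : X ⟶ Y)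
    (d : W ⟶ X) [IsSchemeTheoreticallyDominant d] (l : W ⟶ Z) (hl : l ≫ i = d ≫ h) :
    ∃ h' : X ⟶ Z, h' ≫ i = h := by
  have hle : i.ker ≤ h.ker := by
    refine (l.le_ker_comp i).trans ?_
    rw [hl, Scheme.Hom.ker_comp, Scheme.Hom.ker_eq_bot d, Scheme.IdealSheafData.map_bot]
  exact ⟨IsClosedImmersion.lift i h hle, IsClosedImmersion.lift_fac _ _ _⟩

/-- Schematic density passes to open subschemes. -/
theorem isSchematicallyDense_preimage {X : Scheme.{u}} {U : X.Opens}
    (hU : CInt.IsSchematicallyDense U) (W : X.Opens) :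
    CInt.IsSchematicallyDense (W.ι ⁻¹ᵁ U) := by
  intro V
  have hle : (W.ι ''ᵁ V) ⊓ U ≤ W.ι ''ᵁ (V ⊓ W.ι ⁻¹ᵁ U) := by
    rintro x ⟨⟨y, hy, rfl⟩, hx⟩
    exact ⟨y, ⟨hy, hx⟩, rfl⟩
  intro a b hab
  apply hU (W.ι ''ᵁ V)
  have := congrArg (X.presheaf.map (homOfLE hle).op).hom hab
  have e : ∀ z, (X.presheaf.map (homOfLE hle).op).hom
      ((X.presheaf.map (W.ι.isOpenEmbedding.functor.op.map
        (homOfLE (inf_le_left : V ⊓ W.ι ⁻¹ᵁ U ≤ V)).op)).hom z) =
      (X.presheaf.map (homOfLE (inf_le_left : W.ι ''ᵁ V ⊓ U ≤ W.ι ''ᵁ V)).op).hom z := fun z => by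
    exact (ConcreteCategory.congr_hom (X.presheaf.map_comp _ _) z).symm
  exact (e a).symm.trans (this.trans (e b))

/-- Restrictions of two morphisms to an open of the base are equal iff they agree on the
preimage open. -/
theorem pullback_map_eq_iff {S : Scheme.{u}} (U : S.Opens) {Y N : Over S} (f₁ f₂ : Y ⟶ N) :
    (Over.pullback U.ι).map f₁ = (Over.pullback U.ι).map f₂ ↔
      (Y.hom ⁻¹ᵁ U).ι ≫ f₁.left = (Y.hom ⁻¹ᵁ U).ι ≫ f₂.left := by
  rw [← cancel_epi (pullbackRestrictIsoRestrict Y.hom U).hom,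
    pullbackRestrictIsoRestrict_hom_ι_assoc, pullbackRestrictIsoRestrict_hom_ι_assoc]
  constructor
  · intro h
    have h' := congrArg (fun k => CommaMorphism.left k ≫ pullback.fst N.hom U.ι) h
    simp only [Over.pullback_map_left, pullback.lift_fst] at h'
    exact h'
  · intro h
    ext1
    apply pullback.hom_ext
    · simp only [Over.pullback_map_left, pullback.lift_fst]
      exact h
    · simp only [Over.pullback_map_left, pullback.lift_snd]

/-- The Néron mapping property with respect to an open of the base in terms of the preimage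
open. -/
theorem bijective_pullback_map_iff {S : Scheme.{u}} (U : S.Opens) (Y N : Over S) :
    Function.Bijective (fun f : Y ⟶ N => (Over.pullback U.ι).map f) ↔
      (∀ f₁ f₂ : Y ⟶ N, (Y.hom ⁻¹ᵁ U).ι ≫ f₁.left = (Y.hom ⁻¹ᵁ U).ι ≫ f₂.left → f₁ = f₂) ∧
        ∀ k : (Y.hom ⁻¹ᵁ U : Scheme.{u}) ⟶ N.left, k ≫ N.hom = (Y.hom ⁻¹ᵁ U).ι ≫ Y.hom →
          ∃ f : Y ⟶ N, (Y.hom ⁻¹ᵁ U).ι ≫ f.left = k := by
  let e := pullbackRestrictIsoRestrict Y.hom U
  refine and_congr ⟨fun h f₁ f₂ he => h ((pullback_map_eq_iff U f₁ f₂).mpr he),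
    fun h f₁ f₂ he => h f₁ f₂ ((pullback_map_eq_iff U f₁ f₂).mp he)⟩ ⟨?_, ?_⟩
  · intro h k hk
    have hw : (e.hom ≫ k) ≫ N.hom = pullback.snd Y.hom U.ι ≫ U.ι := by
      simp [e, hk, pullback.condition]
    obtain ⟨f, hf⟩ := h (Over.homMk (pullback.lift (e.hom ≫ k) (pullback.snd Y.hom U.ι) hw)
      (pullback.lift_snd _ _ _))
    refine ⟨f, ?_⟩
    rw [← cancel_epi e.hom]
    have h' : pullback.lift (pullback.fst Y.hom U.ι ≫ f.left) (pullback.snd Y.hom U.ι) (by
        simp [pullback.condition]) ≫ pullback.fst N.hom U.ι =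
        pullback.lift (e.hom ≫ k) (pullback.snd Y.hom U.ι) hw ≫ pullback.fst N.hom U.ι :=
      congrArg (fun m => CommaMorphism.left m ≫ pullback.fst N.hom U.ι) hf
    rw [pullback.lift_fst, pullback.lift_fst] at h'
    rw [← h', pullbackRestrictIsoRestrict_hom_ι_assoc]
  · intro h φ
    obtain ⟨f, hf⟩ := h (e.inv ≫ φ.left ≫ pullback.fst N.hom U.ι) (by
      have hw : φ.left ≫ pullback.snd N.hom U.ι = pullback.snd Y.hom U.ι := Over.w φ
      have hi : e.inv ≫ pullback.fst Y.hom U.ι = (Y.hom ⁻¹ᵁ U).ι := by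
        rw [Iso.inv_comp_eq]; simp [e]
      rw [Category.assoc, Category.assoc, pullback.condition, ← Category.assoc φ.left]
      erw [hw]
      erw [← pullback.condition]
      rw [← Category.assoc, hi])
    refine ⟨f, ?_⟩
    ext1
    apply pullback.hom_ext
    · have := congrArg (fun m => e.hom ≫ m) hf
      simp only [Iso.hom_inv_id_assoc, e, pullbackRestrictIsoRestrict_hom_ι_assoc] at this
      exact (pullback.lift_fst _ _ _).trans this
    · exact (pullback.lift_snd _ _ _).trans (Over.w φ).symm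

end Groth.Agent.Lib.SchDense.Factor
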